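import Groth.Agent.Lib.Helper2.CMDual.Abstract
import Groth.Agent.Lib.Helper2.StalkExt.ClosedPn
import Groth.Agent.Lib.Helper2.ExtLin.NegTwist
import Groth.Agent.Lib.Helper13.ClImmPush
import Groth.Agent.Lib.Helper13.ExtAdj
import Groth.Agent.Lib.Helper17.PbFinite
import Groth.Agent.S0002
import Groth.Agent.S0046

/-!
# Serre duality on a Cohen–Macaulay closed subscheme of `P^N_k` with a dualizing sheaf (helper2)
-/

set_option autoImplicit false
set_option linter.style.haveILetI false
universe u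
open CategoryTheory CategoryTheory.Limits AlgebraicGeometry TopologicalSpace Opposite
open Scheme.Modules

noncomputable section

namespace Groth.Agent.Lib.Helper2.CMDual

open Groth.Agent.Lib.Helper7.TwFun Groth.Agent.Lib.Helper7.MulSurj Groth.Agent.Lib.Helper7.RegRes
  Groth.Agent.Lib.Helper7.CohFinite Groth.Agent.Lib.Helper7.PnExt
  Groth.Agent.Lib.Helper13 Groth.Agent.Lib.Helper13.SerreCrit1

section General

attribute [local instance] preservesBinaryBiproducts_of_preservesBiproducts in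
/-- an additive functor commutes with `powSum`. -/
def mapPowSum {C D : Type*} [Category C] [Abelian C] [Category D] [Abelian D] (G : C ⥤ D)
    [G.Additive] (L : C) : ∀ j : ℕ, G.obj (powSum L j) ≅ powSum (G.obj L) j
  | 0 => Iso.refl _
  | j + 1 => G.mapBiprod _ _ ≪≫ biprod.mapIso (mapPowSum G L j) (Iso.refl _)

/-- the direct image along a closed immersion reflects epimorphisms. -/
lemma epi_of_epi_pushforward {Z Y : Scheme.{u}} (i : Z ⟶ Y) [IsClosedImmersion i]
    {M N : Z.Modules} (φ : M ⟶ N) (h : Epi ((pushforward i).map φ)) : Epi φ := by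
  haveI := ClImmPush.preservesHomology_pushforward i
  have e : (pushforward i).obj (cokernel φ) ≅ cokernel ((pushforward i).map φ) :=
    PreservesCokernel.iso (pushforward i) φ
  have hz : IsZero ((pushforward i).obj (cokernel φ)) :=
    IsZero.of_iso (isZero_cokernel_of_epi _) e
  have hz' : IsZero (cokernel φ) := ClImmPush.isZero_of_pushforward i _ hz
  exact Abelian.epi_of_cokernel_π_eq_zero φ (hz'.eq_of_tgt _ _)

end General

section Closed

variable (k : Type u) [Field k] (N : ℕ) {X : Scheme.{u}} (ι : X ⟶ CohB1.ProjSpace N k)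
  [IsClosedImmersion ι]

/-- a coherent module on a closed subscheme of `P^N_k` is a quotient of the pullback of a finite
direct sum of copies of `O(-m)`, `m` arbitrarily large. -/
theorem exists_epi_pullback_powSum (F : X.Modules) (hF : Coh.IsCoh F) (m₀ : ℕ) :
    ∃ (m : ℕ) (_ : m₀ ≤ m) (j : ℕ)
      (π : (Scheme.Modules.pullback ι).obj (powSum (Twist.twistProjSpace N k (-(m : ℤ))) j) ⟶ F),
      Epi π := by
  classical
  haveI : IsNoetherian (CohB1.ProjSpace N k) := Groth.Agent.S2357.result (CohB1.polyGrading N k)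
  have hG : Coh.IsCoh ((Scheme.Modules.pushforward ι).obj F) := Groth.Agent.S0019.result ι F hF
  obtain ⟨n₀, hn₀⟩ := Groth.Agent.S4402.result (CohB1.polyGrading N k)
    (Finset.univ.image (MvPolynomial.X : Fin (N + 1) → MvPolynomial (Fin (N + 1)) k))
    (fun f hf => by
      obtain ⟨a, _, rfl⟩ := Finset.mem_image.mp hf
      exact MvPolynomial.isHomogeneous_X k a)
    (Groth.Agent.Lib.Helper7.PnFinite.irrelevant_eq_span N k) _ hG.1 hG.2
  obtain ⟨j, p, hp⟩ : ∃ (j : ℕ) (p : (∐ fun _ : Fin j =>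
      Twist.twistProjSpace N k (-((max n₀ m₀ : ℕ) : ℤ))) ⟶ (pushforward ι).obj F), Epi p :=
    hn₀ (max n₀ m₀) (le_max_left _ _)
  haveI := hp
  obtain ⟨q, hq⟩ : ∃ q : powSum (Twist.twistProjSpace N k (-((max n₀ m₀ : ℕ) : ℤ))) j ⟶
      (pushforward ι).obj F, Epi q := ⟨_, epi_powDesc p⟩
  let adj := Scheme.Modules.pullbackPushforwardAdjunction ι
  refine ⟨max n₀ m₀, le_max_right _ _, j, (adj.homEquiv _ _).symm q, ?_⟩
  apply epi_of_epi_pushforward ι
  have h1 : adj.unit.app _ ≫ (pushforward ι).map ((adj.homEquiv _ _).symm q) = q :=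
    (adj.homEquiv_unit _ _ _).symm.trans ((adj.homEquiv _ _).apply_symm_apply q)
  haveI : Epi (adj.unit.app _ ≫ (pushforward ι).map ((adj.homEquiv _ _).symm q)) := by
    rw [h1]; exact hq
  exact epi_of_epi (adj.unit.app _) _

open Groth.Agent.Lib.Helper7 Groth.Agent.Lib.Helper3 Groth.Agent.Lib.Helper3.InvMonoidal
  Groth.Agent.Lib.Helper2.ExtLin in
/-- `Ext^i(ι^*O(-m), ω) = 0` for all `i ≥ 1` and `m ≫ 0`. -/
theorem exists_neg_twist_ext_vanishing_all [HasExt.{u} X.Modules]
    (ω : X.Modules) (hω : Coh.IsCoh ((Scheme.Modules.pushforward ι).obj ω)) :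
    ∃ m₀ : ℤ, ∀ m : ℤ, m₀ ≤ m → ∀ i : ℕ, 1 ≤ i →
      Subsingleton (Abelian.Ext ((Scheme.Modules.pullback ι).obj (Twist.twistProjSpace N k (-m)))
        ω i) := by
  obtain ⟨m₀, h⟩ := serre_vanishing_closed' k N ι ω hω
  refine ⟨m₀, fun m hm i hi => ?_⟩
  have h1 := h m hm i hi
  haveI := isEquivalence_twR ((Scheme.Modules.pullback ι).obj (Twist.twistProjSpace N k m))
    ((Scheme.Modules.pullback ι).obj (Twist.twistProjSpace N k (-m)))
    (pullPairIso k N ι m (-m) (by omega))
  haveI : EnoughInjectives X.Modules :=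
    Groth.Agent.Lib.Helper13.ModGrothendieck.enoughInjectives X.ringCatSheaf
  obtain ⟨eq1⟩ := nonempty_addEquiv
    (twR ((Scheme.Modules.pullback ι).obj (Twist.twistProjSpace N k m)))
    ((Scheme.Modules.pullback ι).obj (Twist.twistProjSpace N k (-m))) (Coh.structureModule X)
    (pullPairIso k N ι (-m) m (by omega)) ω i
  obtain ⟨eq2⟩ := Groth.Agent.Lib.Helper5.ExtUnitHRing.nonempty_addEquiv X.ringCatSheaf
    ((twR ((Scheme.Modules.pullback ι).obj (Twist.twistProjSpace N k m))).obj ω) i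
  haveI h2 : Subsingleton (Coh.HH X
      ((twR ((Scheme.Modules.pullback ι).obj (Twist.twistProjSpace N k m))).obj ω) i) := h1
  exact (eq1.trans eq2).toEquiv.subsingleton

include k N ι in
open Groth.Agent.Lib.Helper3.InvMonoidal in
/-- **presentations on a closed subscheme of `P^N_k` which is Cohen–Macaulay of dimension `n` at
its closed points.** -/
theorem hasPres_of_cm [HasExt.{u} X.Modules] (n : ℕ)
    (hCM : ∀ x : X, IsClosed ({x} : Set X) →
      LocCoh.IsCohenMacaulayLocalRing (X.presheaf.stalk x) ∧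
        ringKrullDim (X.presheaf.stalk x) = n)
    (ω : X.Modules) (hω : Coh.IsCoh ω) : HasPres n ω := by
  haveI : IsNoetherian (CohB1.ProjSpace N k) := Groth.Agent.S2357.result (CohB1.polyGrading N k)
  haveI : IsLocallyNoetherian X := LocallyOfFiniteType.isLocallyNoetherian ι
  intro F hF
  obtain ⟨m₁, h1⟩ := exists_neg_twist_ext_vanishing_all k N ι ω (Groth.Agent.S0019.result ι ω hω)
  obtain ⟨q₀, h2⟩ := Groth.Agent.Lib.Helper2.StalkExt.neg_twist_vanishing_of_cm k N ι n hCM
    (Coh.structureModule X) (Groth.Agent.Lib.Helper26.FinPush.isFinLocFree_structureModule X)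
  obtain ⟨m, hm, j, π, hπ⟩ := exists_epi_pullback_powSum k N ι F hF (max m₁.toNat q₀)
  haveI := hπ
  haveI : (Scheme.Modules.pullback ι).Additive :=
    (Scheme.Modules.pullbackPushforwardAdjunction ι).left_adjoint_additive
  have e : (Scheme.Modules.pullback ι).obj (powSum (Twist.twistProjSpace N k (-(m : ℤ))) j) ≅
      powSum ((Scheme.Modules.pullback ι).obj (Twist.twistProjSpace N k (-(m : ℤ)))) j :=
    mapPowSum (Scheme.Modules.pullback ι) _ j
  have hE0 : Coh.IsCoh (powSum (Twist.twistProjSpace N k (-(m : ℤ))) j) :=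
    isCoh_powSum _ (Groth.Agent.Lib.Helper7.PnFinite.isCoh_twist N k (-(m : ℤ))) j
  have hE : Coh.IsCoh ((Scheme.Modules.pullback ι).obj
      (powSum (Twist.twistProjSpace N k (-(m : ℤ))) j)) := by
    haveI := hE0.1
    haveI := hE0.2
    exact ⟨Groth.Agent.Lib.Helper17.PbStalk.isQuasicoherent_pullback ι _,
      Groth.Agent.Lib.Helper17.PbFinite.isFiniteType_pullback ι _⟩
  have hS := Groth.Agent.Lib.Helper7.CechCard.shortExact_kernel π
  refine ⟨_, kernel π, kernel.ι π, π, kernel.condition π, hS, hE, ?_, ?_, ?_⟩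
  · haveI := hF.1
    haveI := hE.1
    have hKq : Coh.IsQCoh (kernel π) := Groth.Agent.Lib.Helper3.QCProps.isQuasicoherent_kernel π
    exact Groth.Agent.S0046.result _ _ (kernel π) (kernel.ι π) hE hKq
  · intro i hi
    have h := sub_ext_powSum ((Scheme.Modules.pullback ι).obj
      (Twist.twistProjSpace N k (-(m : ℤ)))) ω i
      (h1 (m : ℤ) (by
        have := le_max_left m₁.toNat q₀
        omega) i hi) j
    exact (Groth.Agent.Lib.Helper13.ExtAdj.extIsoLeft e ω i).symm.toEquiv.subsingleton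
  · intro q hq
    have hL : Subsingleton (Coh.HH X ((Scheme.Modules.pullback ι).obj
        (Twist.twistProjSpace N k (-(m : ℤ)))) q) :=
      subsingleton_HH_of_iso (unitorL _).symm q (h2 m (by
        have := le_max_right m₁.toNat q₀
        omega) q hq)
    exact subsingleton_HH_of_iso e q (sub_HH_powSum _ q hL j)

section Main

variable [X.Over (Spec (CommRingCat.of k))]

omit [IsClosedImmersion ι] in
/-- the dualizing property in the form of the statements gives `IsDualAt`. -/
theorem isDualAt_of_existsUnique (n : ℕ) (ω : X.Modules) (t : Coh.HH X ω n →ₗ[k] k)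
    (hdual : ∀ F : X.Modules, Coh.IsCoh F → ∀ ψ : Coh.HH X F n →ₗ[k] k,
        ∃! φ : F ⟶ ω, ∀ x : Coh.HH X F n,
          ψ x = t (Sheaf.H.map ((SheafOfModules.toSheaf X.ringCatSheaf).map φ) n x))
    (F : X.Modules) (hF : Coh.IsCoh F) : IsDualAt k n ω t F := by
  refine ⟨fun ψ => (hdual F hF ψ).exists, fun φ hφ => ?_⟩
  refine (hdual F hF 0).unique (fun x => ?_) (fun x => ?_)
  · rw [LinearMap.zero_apply]
    exact (hφ x).symm
  · rw [LinearMap.zero_apply]
    change (0 : k) = t (Hm (0 : F ⟶ ω) n x)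
    rw [Hm_zero, map_zero]

variable (hι : ι ≫ CohB1.ProjSpace.toSpec N k = X ↘ Spec (CommRingCat.of k))

include hι in
/-- coherent cohomology on a closed subscheme of `P^N_k` is finite dimensional. -/
theorem finite_HH_closed (F : X.Modules) (hF : Coh.IsCoh F) (q : ℕ) :
    Module.Finite k (Coh.HH X F q) := by
  haveI : IsProper (X ↘ Spec (CommRingCat.of k)) := by
    rw [← hι]
    infer_instance
  exact Groth.Agent.S0002.result k X F hF q

variable [HasExt.{u} X.Modules] (n : ℕ)
  (hCM : ∀ x : X, IsClosed ({x} : Set X) →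
    LocCoh.IsCohenMacaulayLocalRing (X.presheaf.stalk x) ∧ ringKrullDim (X.presheaf.stalk x) = n)
  (ω : X.Modules) (hω : Coh.IsCoh ω) (t : Coh.HH X ω n →ₗ[k] k)
  (hdual : ∀ F : X.Modules, Coh.IsCoh F → ∀ ψ : Coh.HH X F n →ₗ[k] k,
      ∃! φ : F ⟶ ω, ∀ x : Coh.HH X F n,
        ψ x = t (Sheaf.H.map ((SheafOfModules.toSheaf X.ringCatSheaf).map φ) n x))

include N ι hCM hω hdual in
/-- **`Ext^i(F, ω) = 0 ↔ H^{n-i}(X, F) = 0`** on a Cohen–Macaulay closed subscheme of `P^N_k`. -/
theorem ext_subsingleton_iff (F : X.Modules) (hF : Coh.IsCoh F) (i : ℕ) (hi : i ≤ n) :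
    Subsingleton (Abelian.Ext F ω i) ↔ Subsingleton (Coh.HH X F (n - i)) :=
  pp_all (isDualAt_of_existsUnique k n ω t hdual) (hasPres_of_cm k N ι n hCM ω hω) i hi F hF

include N ι hι hCM hω hdual in
/-- **`Ext^i(F, ω) ≃ₗ H^{n-i}(X, F)^∨`** on a Cohen–Macaulay closed subscheme of `P^N_k`. -/
theorem ext_linearEquiv_closed (F : X.Modules) (hF : Coh.IsCoh F) (i : ℕ) (hi : i ≤ n) :
    Nonempty (Abelian.Ext F ω i ≃ₗ[k] Module.Dual k (Coh.HH X F (n - i))) :=
  ext_linearEquiv (isDualAt_of_existsUnique k n ω t hdual) (hasPres_of_cm k N ι n hCM ω hω)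
    (finite_HH_closed k N ι hι) i hi F hF

include k N ι hCM hω hdual in
/-- `Ext^i(F, ω) = 0` for `i > n`. -/
theorem ext_subsingleton_of_gt (F : X.Modules) (hF : Coh.IsCoh F) (i : ℕ) (hi : n < i) :
    Subsingleton (Abelian.Ext F ω i) :=
  vv_all (isDualAt_of_existsUnique k n ω t hdual) (hasPres_of_cm k N ι n hCM ω hω) i hi F hF

end Main

end Closed

end Groth.Agent.Lib.Helper2.CMDual
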