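import Groth.Agent.Lib.Helper7.PnExtB

/-!
# Serre duality by dimension shifting, abstractly (helper2)

Let `X` be a scheme over a field `k`, `ω` an `O_X`-module with a trace `tr : H^n(X, ω) → k` such that
`Hom(F, ω) → H^n(X, F)^∨` is bijective for all coherent `F`, and suppose every coherent `F` is a
quotient of a coherent `E` with `Ext^i(E, ω) = 0` (`i ≥ 1`) and `H^q(X, E) = 0` (`q < n`) with
coherent kernel.  Then `Ext^i(F, ω) = 0 ↔ H^{n-i}(X, F) = 0` (`i ≤ n`), and, when the cohomology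
is finite dimensional, `Ext^i(F, ω) ≃ₗ H^{n-i}(X, F)^∨`.  This is the argument of
`Groth.Agent.Lib.Helper7.PnExt` (for `P^n_k`), with the inputs made hypotheses.
-/

set_option autoImplicit false
set_option linter.style.haveILetI false
universe u
open CategoryTheory CategoryTheory.Limits AlgebraicGeometry TopologicalSpace Opposite
open Scheme.Modules

noncomputable section

namespace Groth.Agent.Lib.Helper2.CMDual

open Groth.Agent.Lib.Helper7.TwFun Groth.Agent.Lib.Helper7.MulSurj Groth.Agent.Lib.Helper7.RegRes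
  Groth.Agent.Lib.Helper7.CohFinite Groth.Agent.Lib.Helper7.PnExt
  Groth.Agent.Lib.Helper13 Groth.Agent.Lib.Helper13.SerreCrit1

variable (k : Type u) [Field k] {X : Scheme.{u}} [X.Over (Spec (CommRingCat.of k))]
  (n : ℕ) (ω : X.Modules) (tr : Coh.HH X ω n →ₗ[k] k)

/-- `F` satisfies duality: `Hom(F, ω) → H^n(F)^∨` is bijective -/
def IsDualAt (F : X.Modules) : Prop :=
  (∀ ψ : Coh.HH X F n →ₗ[k] k, ∃ φ : F ⟶ ω, ∀ x, ψ x = tr (Hm φ n x)) ∧
  (∀ φ : F ⟶ ω, (∀ x, tr (Hm φ n x) = 0) → φ = 0)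

variable [HasExt.{u} X.Modules]

/-- presentations by modules acyclic for `Ext(-, ω)` and for `H^q`, `q < n`. -/
def HasPres : Prop :=
  ∀ F : X.Modules, Coh.IsCoh F →
    ∃ (E K : X.Modules) (ι : K ⟶ E) (π : E ⟶ F) (w : ι ≫ π = 0),
      (ShortComplex.mk ι π w).ShortExact ∧ Coh.IsCoh E ∧ Coh.IsCoh K ∧
      (∀ i : ℕ, 1 ≤ i → Subsingleton (Abelian.Ext E ω i)) ∧
      (∀ q : ℕ, q < n → Subsingleton (Coh.HH X E q))

variable {k n ω tr}

section PP

variable (hD : ∀ F : X.Modules, Coh.IsCoh F → IsDualAt k n ω tr F) (hP : HasPres n ω)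

variable (k n ω) in
/-- the statement `Ext^i(F, ω) = 0 ↔ H^{n-i}(F) = 0` for all coherent `F`. -/
def PP (i : ℕ) : Prop :=
  ∀ F : X.Modules, Coh.IsCoh F →
    (Subsingleton (Abelian.Ext F ω i) ↔ Subsingleton (Coh.HH X F (n - i)))

include hD in
theorem pp_zero : PP n ω 0 := by
  intro F hF
  have hDF := hD F hF
  rw [Nat.sub_zero]
  constructor
  · intro h
    have hφ : ∀ φ : F ⟶ ω, φ = 0 := fun φ =>
      (Abelian.Ext.mk₀_eq_zero_iff φ).mp (@Subsingleton.elim _ h (Abelian.Ext.mk₀ φ) 0)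
    refine subsingleton_of_forall_eq 0 fun x => ?_
    by_contra hx
    obtain ⟨ψ, hψ⟩ := Module.Projective.exists_dual_ne_zero k hx
    obtain ⟨φ, hφ'⟩ := hDF.1 ψ
    apply hψ
    rw [hφ' x, hφ φ, Hm_zero, map_zero]
  · intro h
    refine subsingleton_of_forall_eq 0 fun y => ?_
    obtain ⟨φ, rfl⟩ := (Abelian.Ext.mk₀_bijective _ _).2 y
    have h0 : φ = 0 := hDF.2 φ (fun x => by
      rw [@Subsingleton.elim _ h x 0, map_zero, map_zero])
    rw [h0, Abelian.Ext.mk₀_zero]

omit [HasExt.{u} X.Modules] in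
/-- extension of maps to `ω` along `ι : K ⟶ E` versus injectivity of `H^n(ι)`. -/
lemma lift_iff {K E : X.Modules} (ι : K ⟶ E) (hDK : IsDualAt k n ω tr K)
    (hDE : IsDualAt k n ω tr E) :
    (∀ g : K ⟶ ω, ∃ g' : E ⟶ ω, ι ≫ g' = g) ↔
      ∀ x : Coh.HH X K n, Hm ι n x = 0 → x = 0 := by
  constructor
  · intro h x hx
    by_contra hx0
    obtain ⟨ψ, hψ⟩ := Module.Projective.exists_dual_ne_zero k hx0
    obtain ⟨g, hg⟩ := hDK.1 ψ
    obtain ⟨g', rfl⟩ := h g
    apply hψ
    rw [hg x, Hm_comp, hx, map_zero, map_zero]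
  · intro h g
    have hker : LinearMap.ker (HmapL k ι n) = ⊥ :=
      LinearMap.ker_eq_bot'.mpr (fun x hx => h x hx)
    obtain ⟨r, hr⟩ := LinearMap.exists_leftInverse_of_injective (HmapL k ι n) hker
    obtain ⟨g', hg'⟩ := hDE.1 ((tr.comp (HmapL k g n)).comp r)
    refine ⟨g', ?_⟩
    have h0 : ι ≫ g' - g = 0 := hDK.2 _ (fun x => by
      have hrx : r (Hm ι n x) = x := LinearMap.congr_fun hr x
      rw [Hm_sub, map_sub, Hm_comp, ← hg' (Hm ι n x)]
      change tr (Hm g n (r (Hm ι n x))) - tr (Hm g n x) = 0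
      rw [hrx, sub_self])
    exact sub_eq_zero.mp h0

include hD hP in
theorem pp_one (hn : 1 ≤ n) : PP n ω 1 := by
  intro F hF
  obtain ⟨E, K, ι, π, w, hS, hE, hK, hExt, hHH⟩ := hP F hF
  have hDK := hD K hK
  have hDE := hD E hE
  obtain ⟨q, hq⟩ : ∃ q : ℕ, n = q + 1 := ⟨n - 1, by omega⟩
  have hA := ext_one_iff (ShortComplex.mk ι π w) hS ω (hExt 1 le_rfl)
  have hB := lift_iff ι hDK hDE
  have hC := Hm_inj_iff (ShortComplex.mk ι π w) hS q (hHH q (by omega))
  have e1 : n - 1 = q := by omega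
  rw [e1]
  refine hA.trans (hB.trans ?_)
  refine Iff.trans ?_ hC
  subst hq
  exact Iff.rfl

include hP in
theorem pp_succ (i : ℕ) (hi : 1 ≤ i) (hin : i + 1 ≤ n) (h : PP n ω i) : PP n ω (i + 1) := by
  intro F hF
  obtain ⟨E, K, ι, π, w, hS, hE, hK, hExt, hHH⟩ := hP F hF
  obtain ⟨q, hq⟩ : ∃ q : ℕ, n = q + 1 + i := ⟨n - 1 - i, by omega⟩
  have hA := ext_shift (ShortComplex.mk ι π w) hS ω i (hExt i hi) (hExt (i + 1) (by omega))
  have hC := HH_shift (ShortComplex.mk ι π w) hS q (hHH q (by omega)) (hHH (q + 1) (by omega))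
  have hK' := h K hK
  have e1 : n - (i + 1) = q := by omega
  have e2 : n - i = q + 1 := by omega
  rw [e1]
  rw [e2] at hK'
  exact hA.trans (hK'.trans hC.symm)

include hD hP in
/-- **`Ext^i(F, ω) = 0 ↔ H^{n-i}(X, F) = 0`** for coherent `F` and `i ≤ n`. -/
theorem pp_all : ∀ i : ℕ, i ≤ n → PP n ω i
  | 0, _ => pp_zero hD
  | 1, h => pp_one hD hP h
  | i + 2, h => pp_succ hP (i + 1) (by omega) h (pp_all (i + 1) (by omega))

end PP

section QQ

variable (k n ω tr) in
omit [HasExt.{u} X.Modules] in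
/-- `φ ↦ tr ∘ H^n(φ)`, as a linear map. -/
def PhiL (F : X.Modules) : (F ⟶ ω) →ₗ[k] Module.Dual k (Coh.HH X F n) where
  toFun φ := tr.comp (HmapL k φ n)
  map_add' φ ψ := by
    ext x
    change tr (Hm (φ + ψ) n x) = tr (Hm φ n x) + tr (Hm ψ n x)
    rw [Hm_add, map_add]
  map_smul' a φ := by
    ext x
    change tr (Hm (a • φ) n x) = a • tr (Hm φ n x)
    rw [Hm_smul]
    exact tr.map_smul a _

omit [HasExt.{u} X.Modules] in
lemma PhiL_apply (F : X.Modules) (φ : F ⟶ ω) (x : Coh.HH X F n) :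
    PhiL k n ω tr F φ x = tr (Hm φ n x) := rfl

omit [HasExt.{u} X.Modules] in
lemma PhiL_bijective (F : X.Modules) (hDF : IsDualAt k n ω tr F) :
    Function.Bijective (PhiL k n ω tr F) := by
  constructor
  · rw [← LinearMap.ker_eq_bot, LinearMap.ker_eq_bot']
    intro φ hφ
    exact hDF.2 φ (fun x => by
      rw [← PhiL_apply, hφ]
      rfl)
  · intro ψ
    obtain ⟨φ, hφ⟩ := hDF.1 ψ
    refine ⟨φ, ?_⟩
    ext x
    rw [PhiL_apply, hφ x]

theorem ext_zero_equiv (F : X.Modules) (hDF : IsDualAt k n ω tr F) :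
    Nonempty (Abelian.Ext F ω 0 ≃ₗ[k] Module.Dual k (Coh.HH X F n)) :=
  ⟨(Abelian.Ext.linearEquiv₀ (R := k)).trans
    (LinearEquiv.ofBijective (PhiL k n ω tr F) (PhiL_bijective F hDF))⟩

variable (hD : ∀ F : X.Modules, Coh.IsCoh F → IsDualAt k n ω tr F) (hP : HasPres n ω)
  (hfin : ∀ F : X.Modules, Coh.IsCoh F → ∀ q : ℕ, Module.Finite k (Coh.HH X F q))

include hD hfin in
lemma ext_zero_finite (F : X.Modules) (hF : Coh.IsCoh F) :
    Module.Finite k (Abelian.Ext F ω 0) ∧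
      Module.finrank k (Abelian.Ext F ω 0) = Module.finrank k (Coh.HH X F n) := by
  obtain ⟨e⟩ := ext_zero_equiv F (hD F hF)
  haveI : Module.Finite k (Coh.HH X F n) := hfin F hF n
  exact ⟨Module.Finite.equiv e.symm, e.finrank_eq.trans Subspace.dual_finrank_eq⟩

variable (k n ω) in
/-- the statement: `Ext^i(F, ω)` is finite dimensional of dimension `h^{n-i}(F)`. -/
def QQ (i : ℕ) : Prop :=
  ∀ F : X.Modules, Coh.IsCoh F →
    (Module.Finite k (Abelian.Ext F ω i) ∧
      Module.finrank k (Abelian.Ext F ω i) = Module.finrank k (Coh.HH X F (n - i)))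

include hD hfin in
theorem qq_zero : QQ k n ω 0 := fun F hF => ext_zero_finite hD hfin F hF

/-- the four term sequence for `Ext(-, Y)`. -/
lemma ext_four_term {K E F : X.Modules} (ι : K ⟶ E) (π : E ⟶ F)
    (w : ι ≫ π = 0) (hS : (ShortComplex.mk ι π w).ShortExact) (Y : X.Modules)
    (hE : Subsingleton (Abelian.Ext E Y 1))
    [Module.Finite k (Abelian.Ext E Y 0)] [Module.Finite k (Abelian.Ext K Y 0)] :
    Module.Finite k (Abelian.Ext F Y 1) ∧
      Module.finrank k (Abelian.Ext F Y 0) + Module.finrank k (Abelian.Ext K Y 0) =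
        Module.finrank k (Abelian.Ext E Y 0) + Module.finrank k (Abelian.Ext F Y 1) := by
  haveI : Epi π := hS.epi_g
  have h10 : 1 + 0 = 1 := rfl
  refine finrank_four_term
    ((Abelian.Ext.mk₀ π).precompOfLinear k Y (zero_add 0))
    ((Abelian.Ext.mk₀ ι).precompOfLinear k Y (zero_add 0))
    (hS.extClass.precompOfLinear k Y h10) ?_ ?_ ?_ ?_
  · intro x y hxy
    exact Abelian.Ext.precomp_mk₀_injective_of_epi Y π hxy
  · intro y
    constructor
    · intro hy
      exact Abelian.Ext.contravariant_sequence_exact₂ hS Y y hy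
    · rintro ⟨x, rfl⟩
      change (Abelian.Ext.mk₀ ι).comp ((Abelian.Ext.mk₀ π).comp x (zero_add 0)) (zero_add 0) = 0
      rw [Abelian.Ext.mk₀_comp_mk₀_assoc, w, Abelian.Ext.mk₀_zero, Abelian.Ext.zero_comp]
  · intro z
    constructor
    · intro hz
      exact Abelian.Ext.contravariant_sequence_exact₁ hS Y z h10 hz
    · rintro ⟨y, rfl⟩
      exact hS.extClass_comp_assoc (h := h10) y
  · intro x₃
    exact Abelian.Ext.contravariant_sequence_exact₃ hS Y x₃ (@Subsingleton.elim _ hE _ _) h10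

omit [HasExt.{u} X.Modules] in
/-- the four term sequence in cohomology, with a surjective last map. -/
lemma HH_four_term {K E F : X.Modules} (ι : K ⟶ E) (π : E ⟶ F)
    (w : ι ≫ π = 0) (hS : (ShortComplex.mk ι π w).ShortExact) (q m : ℕ) (hm : q + 1 = m)
    (hE : Subsingleton (Coh.HH X E q))
    (hsurj : Function.Surjective (HmapL k π m))
    [Module.Finite k (Coh.HH X K m)] [Module.Finite k (Coh.HH X E m)] :
    Module.finrank k (Coh.HH X F q) + Module.finrank k (Coh.HH X E m) =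
      Module.finrank k (Coh.HH X K m) + Module.finrank k (Coh.HH X F m) := by
  subst hm
  have hS' := shortExact_map_toSheaf (ShortComplex.mk ι π w) hS
  refine (finrank_four_term
    (deltaL k (ShortComplex.mk ι π w) hS q)
    (HmapL k ι (q + 1)) (HmapL k π (q + 1)) ?_ ?_ ?_ hsurj).2
  · rw [← LinearMap.ker_eq_bot, LinearMap.ker_eq_bot']
    intro x hx
    obtain ⟨y, hy⟩ := exact_right k (ShortComplex.mk ι π w) hS q x hx
    rw [← hy, @Subsingleton.elim _ hE y 0, map_zero]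
  · intro y
    constructor
    · intro hy
      exact Abelian.Ext.covariant_sequence_exact₁ _ hS' y hy rfl
    · rintro ⟨x, rfl⟩
      exact (Abelian.Ext.comp_assoc_of_third_deg_zero x hS'.extClass
        (Abelian.Ext.mk₀ ((ShortComplex.mk ι π w).map (TT X)).f) rfl).trans
        ((congrArg (fun z => x.comp z rfl) hS'.extClass_comp).trans
          (Abelian.Ext.comp_zero _ _ _ _ _))
  · intro z
    constructor
    · intro hz
      exact exact_mid k (ShortComplex.mk ι π w) hS (q + 1) z hz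
    · rintro ⟨y, rfl⟩
      change Hm π (q + 1) (Hm ι (q + 1) y) = 0
      rw [← Hm_comp, w, Hm_zero]

omit [HasExt.{u} X.Modules] in
/-- the connecting map `H^q(F) → H^{q+1}(K)` is bijective when `H^q(E) = H^{q+1}(E) = 0`. -/
lemma HH_delta_finrank {K E F : X.Modules} (ι : K ⟶ E) (π : E ⟶ F)
    (w : ι ≫ π = 0) (hS : (ShortComplex.mk ι π w).ShortExact) (q m : ℕ) (hm : q + 1 = m)
    (hEq : Subsingleton (Coh.HH X E q)) (hEm : Subsingleton (Coh.HH X E m))
    [Module.Finite k (Coh.HH X F q)] :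
    Module.finrank k (Coh.HH X K m) = Module.finrank k (Coh.HH X F q) := by
  subst hm
  have hS' := shortExact_map_toSheaf (ShortComplex.mk ι π w) hS
  have hb : Function.Bijective (deltaL k (ShortComplex.mk ι π w) hS q) := by
    constructor
    · rw [← LinearMap.ker_eq_bot, LinearMap.ker_eq_bot']
      intro x hx
      obtain ⟨y, hy⟩ := exact_right k (ShortComplex.mk ι π w) hS q x hx
      rw [← hy, @Subsingleton.elim _ hEq y 0, map_zero]
    · intro y
      exact Abelian.Ext.covariant_sequence_exact₁ _ hS' y (@Subsingleton.elim _ hEm _ _) rfl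
  exact (finite_finrank_of_bijective _ hb).2

omit [HasExt.{u} X.Modules] in
/-- **right exactness of `H^n` from duality**: `H^n(π)` is surjective for an epimorphism `π`. -/
lemma Hm_surjective_of_epi {E F : X.Modules} (π : E ⟶ F) [Epi π]
    (hDE : IsDualAt k n ω tr E) (hDF : IsDualAt k n ω tr F) :
    Function.Surjective (HmapL k π n) := by
  rw [← LinearMap.range_eq_top]
  by_contra hne
  obtain ⟨x, hx⟩ : ∃ x : Coh.HH X F n, x ∉ LinearMap.range (HmapL k π n) := by
    by_contra hcon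
    push_neg at hcon
    exact hne (eq_top_iff.mpr (fun x _ => hcon x))
  obtain ⟨ψ, hψx, hψ⟩ := Submodule.exists_dual_map_eq_bot_of_notMem hx inferInstance
  obtain ⟨φ, hφ⟩ := hDF.1 ψ
  have h0 : π ≫ φ = 0 := hDE.2 _ (fun y => by
    rw [Hm_comp, ← hφ]
    have : ψ (HmapL k π n y) ∈ Submodule.map ψ (LinearMap.range (HmapL k π n)) :=
      Submodule.mem_map_of_mem (LinearMap.mem_range_self _ y)
    rw [hψ] at this
    exact this)
  have hφ0 : φ = 0 := (cancel_epi π).mp (h0.trans comp_zero.symm)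
  apply hψx
  rw [hφ x, hφ0, Hm_zero, map_zero]

include hD hP hfin in
theorem qq_one (hn : 1 ≤ n) : QQ k n ω 1 := by
  intro F hF
  obtain ⟨E, K, ι, π, w, hS, hE, hK, hExt, hHH⟩ := hP F hF
  obtain ⟨fE, eE⟩ := ext_zero_finite hD hfin E hE
  obtain ⟨fK, eK⟩ := ext_zero_finite hD hfin K hK
  obtain ⟨fF, eF⟩ := ext_zero_finite hD hfin F hF
  haveI := fE
  haveI := fK
  obtain ⟨fin1, h4⟩ := ext_four_term (k := k) ι π w hS ω (hExt 1 le_rfl)
  haveI : Module.Finite k (Coh.HH X K n) := hfin K hK n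
  haveI : Module.Finite k (Coh.HH X E n) := hfin E hE n
  haveI : Epi π := hS.epi_g
  have hsurj := Hm_surjective_of_epi π (hD E hE) (hD F hF)
  have h5 := HH_four_term (k := k) ι π w hS (n - 1) n (by omega) (hHH (n - 1) (by omega)) hsurj
  refine ⟨fin1, ?_⟩
  omega

include hP hfin in
theorem qq_succ (i : ℕ) (hi : 1 ≤ i) (hin : i + 1 ≤ n) (h : QQ k n ω i) : QQ k n ω (i + 1) := by
  intro F hF
  obtain ⟨E, K, ι, π, w, hS, hE, hK, hExt, hHH⟩ := hP F hF
  obtain ⟨fK, eK⟩ := h K hK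
  haveI := fK
  have h1i : 1 + i = i + 1 := by omega
  have hb : Function.Bijective (hS.extClass.precompOfLinear k ω h1i) := by
    constructor
    · rw [← LinearMap.ker_eq_bot, LinearMap.ker_eq_bot']
      intro x₁ hx₁
      obtain ⟨x₂, hx₂⟩ := Abelian.Ext.contravariant_sequence_exact₁ hS ω x₁ h1i hx₁
      rw [← hx₂, @Subsingleton.elim _ (hExt i hi) x₂ 0, Abelian.Ext.comp_zero]
    · intro x₃
      exact Abelian.Ext.contravariant_sequence_exact₃ hS ω x₃
        (@Subsingleton.elim _ (hExt (i + 1) (by omega)) _ _) h1i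
  obtain ⟨fin1, e1⟩ := finite_finrank_of_bijective _ hb
  haveI : Module.Finite k (Coh.HH X F (n - (i + 1))) := hfin F hF _
  have e2 := HH_delta_finrank (k := k) ι π w hS (n - (i + 1)) (n - i) (by omega)
    (hHH _ (by omega)) (hHH _ (by omega))
  exact ⟨fin1, e1.trans (eK.trans e2)⟩

include hD hP hfin in
theorem qq_all : ∀ i : ℕ, i ≤ n → QQ k n ω i
  | 0, _ => qq_zero hD hfin
  | 1, h => qq_one hD hP hfin h
  | i + 2, h => qq_succ hP hfin (i + 1) (by omega) h (qq_all (i + 1) (by omega))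

include hD hP hfin in
/-- **Serre duality**: `Ext^i(F, ω) ≃ₗ H^{n-i}(F)^∨` for coherent `F`, `i ≤ n`. -/
theorem ext_linearEquiv (i : ℕ) (hi : i ≤ n) (F : X.Modules) (hF : Coh.IsCoh F) :
    Nonempty (Abelian.Ext F ω i ≃ₗ[k] Module.Dual k (Coh.HH X F (n - i))) := by
  obtain ⟨fin1, e1⟩ := qq_all hD hP hfin i hi F hF
  haveI := fin1
  haveI : Module.Finite k (Coh.HH X F (n - i)) := hfin F hF _
  exact FiniteDimensional.nonempty_linearEquiv_of_finrank_eq
    (e1.trans Subspace.dual_finrank_eq.symm)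

variable (ω) in
/-- `Ext^i(F, ω) = 0` for all coherent `F`. -/
def VV (i : ℕ) : Prop :=
  ∀ F : X.Modules, Coh.IsCoh F → Subsingleton (Abelian.Ext F ω i)

include hD hP in
theorem vv_base : VV ω (n + 1) := by
  intro F hF
  obtain ⟨E, K, ι, π, w, hS, hE, hK, hExt, hHH⟩ := hP F hF
  haveI : Mono ι := hS.mono_f
  rcases Nat.eq_zero_or_pos n with h0 | hpos
  · subst h0
    rw [ext_one_iff (ShortComplex.mk ι π w) hS ω (hExt 1 le_rfl)]
    exact (lift_iff ι (hD K hK) (hD E hE)).mpr (fun x hx => H0_inj ι x hx)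
  · rw [ext_shift (ShortComplex.mk ι π w) hS ω n (hExt n hpos) (hExt (n + 1) (by omega))]
    rw [pp_all hD hP n le_rfl K hK, Nat.sub_self]
    exact Groth.Agent.Lib.Helper7.TwistH0.sub_H0_of_mono ι (hHH 0 hpos)

include hP in
theorem vv_succ (i : ℕ) (hi : 1 ≤ i) (h : VV ω i) : VV ω (i + 1) := by
  intro F hF
  obtain ⟨E, K, ι, π, w, hS, hE, hK, hExt, hHH⟩ := hP F hF
  rw [ext_shift (ShortComplex.mk ι π w) hS ω i (hExt i hi) (hExt (i + 1) (by omega))]
  exact h K hK

include hD hP in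
/-- `Ext^i(F, ω) = 0` for coherent `F` and `i > n`. -/
theorem vv_all (i : ℕ) (hi : n < i) : VV ω i := by
  obtain ⟨t, rfl⟩ : ∃ t : ℕ, i = n + 1 + t := ⟨i - (n + 1), by omega⟩
  induction t with
  | zero => exact vv_base hD hP
  | succ t ih => exact vv_succ hP (n + 1 + t) (by omega) (ih (by omega))

end QQ

end Groth.Agent.Lib.Helper2.CMDual
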